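import Groth.Agent.AlgSt.K746.SpQuot
import Groth.Agent.Sga3.H775.ActGrpd

/-! Geometric quotients of actions of finite locally free group schemes on affine schemes: geometric fibres are
orbits, and they are categorical quotients for algebraic spaces. -/

set_option autoImplicit false
set_option backward.isDefEq.respectTransparency false
set_option backward.isDefEq.respectTransparency.types false
universe u

open CategoryTheory MonoidalCategory CartesianMonoidalCategory MonObj AlgebraicGeometry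

namespace K915.ActQuot

open Groth.Agent.GrpQ.H766.GeomQuotDef Groth.Agent.Sga3.H775.ActGrpd

variable {S : Scheme.{u}} {G X Y : Over S} [GrpObj G] (a : AlgGrp.Action G X) (f : X ⟶ Y)

theorem orbits (hgood : K746.Good (actGrpd a)) (hQ : IsGeomQuot (actGrpd a).s (actGrpd a).t f.left)
    (Ω : Type u) [Field Ω] [IsAlgClosed Ω] (t : Spec (CommRingCat.of Ω) ⟶ S) :
    (∀ y : Over.mk t ⟶ Y, ∃ x : Over.mk t ⟶ X, x ≫ f = y) ∧
      (∀ x x' : Over.mk t ⟶ X, x ≫ f = x' ≫ f → ∃ g : Over.mk t ⟶ G, lift g x' ≫ a.act = x) := by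
  constructor
  · intro y
    obtain ⟨x, hx⟩ := hgood.exists_geomPt_U hQ y.left
    let x' : Spec (CommRingCat.of Ω) ⟶ X.left := x
    have hx' : x' ≫ f.left = y.left := hx
    refine ⟨Over.homMk x' ?_, Over.OverMorphism.ext hx'⟩
    rw [← Over.w f, reassoc_of% hx']
    exact Over.w y
  · intro x x' h
    obtain ⟨r, hr1, hr2⟩ := hgood.exists_geomPt_R hQ x.left x'.left (congrArg CommaMorphism.left h)
    let r' : Spec (CommRingCat.of Ω) ⟶ (G ⊗ X).left := r
    have h1 : r' ≫ a.act.left = x.left := hr1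
    have h2 : r' ≫ (snd G X).left = x'.left := hr2
    let ρ : Over.mk t ⟶ G ⊗ X := Over.homMk r' (by
      rw [← Over.w (snd G X), reassoc_of% h2]
      exact Over.w x')
    have h3 : ρ ≫ a.act = x := Over.OverMorphism.ext h1
    have h4 : ρ ≫ snd G X = x' := Over.OverMorphism.ext h2
    refine ⟨ρ ≫ fst G X, ?_⟩
    rw [← h3, ← h4, lift_comp_fst_snd]

theorem existsUnique_desc [IsAffine X.left] (hG : Mor2.IsFinLocFree (actGrpd a).s)
    (hQ : IsGeomQuot (actGrpd a).s (actGrpd a).t f.left) {N : AlgSp.Sp S} (hN : AlgSp.IsAlgSpace N)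
    (ψ : (AlgSp.yon S).obj X ⟶ N)
    (hψ : (AlgSp.yon S).map a.act ≫ ψ = (AlgSp.yon S).map (snd G X) ≫ ψ) :
    ∃! χ : (AlgSp.yon S).obj Y ⟶ N, (AlgSp.yon S).map f ≫ χ = ψ := by
  have : IsAffine (actGrpd a).U := ‹IsAffine X.left›
  exact K746.SpQuot.existsUnique_desc (G := actGrpd a) (Y := Y) (p := f) hG hQ hN ψ hψ.symm

end K915.ActQuot
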