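-- Coactions of the Hopf algebra of functions on a finite group.
import Groth.Prelude.Def_ConstAct2

set_option autoImplicit false
universe u v w

open TensorProduct

namespace K915.ConstActCoaction

section Ev

variable (R : Type u) [CommRing R] (V : Type v) [AddCommGroup V] [Module R V] {Γ : Type w}

/-- `v ⊗ f ↦ f(γ) v`. -/
noncomputable def evc (γ : Γ) : V ⊗[R] ConstGrp.F R Γ →ₗ[R] V :=
  (TensorProduct.rid R V).toLinearMap ∘ₗ (ConstGrp.ev R γ).toLinearMap.lTensor V

@[simp] theorem evc_tmul (γ : Γ) (v : V) (f : ConstGrp.F R Γ) : evc R V γ (v ⊗ₜ[R] f) = f γ • v := by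
  simp [evc]

theorem evc_e [DecidableEq Γ] (γ δ : Γ) (v : V) :
    evc R V γ (v ⊗ₜ[R] ConstGrp.e R δ) = if γ = δ then v else 0 := by
  rw [evc_tmul, ConstGrp.e_apply]; split_ifs <;> simp

theorem sum_evc [Fintype Γ] [DecidableEq Γ] (x : V ⊗[R] ConstGrp.F R Γ) :
    ∑ γ : Γ, evc R V γ x ⊗ₜ[R] ConstGrp.e R γ = x := by
  induction x using TensorProduct.induction_on with
  | zero => simp
  | add x y hx hy =>
    conv_rhs => rw [← hx, ← hy]
    rw [← Finset.sum_add_distrib]
    exact Finset.sum_congr rfl fun γ _ => by rw [map_add, TensorProduct.add_tmul]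
  | tmul v f =>
    simp only [evc_tmul]
    conv_rhs => rw [ConstGrp.eq_sum_smul_e f, TensorProduct.tmul_sum]
    exact Finset.sum_congr rfl fun γ _ => by rw [TensorProduct.smul_tmul]

theorem ext_evc [Fintype Γ] [DecidableEq Γ] {x y : V ⊗[R] ConstGrp.F R Γ} (h : ∀ γ, evc R V γ x = evc R V γ y) :
    x = y := by
  rw [← sum_evc R V x, ← sum_evc R V y]
  exact Finset.sum_congr rfl fun γ _ => by rw [h γ]

end Ev

section EvAlg

variable (R : Type u) [CommRing R] (B : Type u) [CommRing B] [Algebra R B] {Γ : Type u}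

theorem evc_mul (γ : Γ) (x y : B ⊗[R] ConstGrp.F R Γ) : evc R B γ (x * y) = evc R B γ x * evc R B γ y := by
  induction x using TensorProduct.induction_on with
  | zero => simp
  | add x y hx hy => rw [add_mul, map_add, hx, hy, map_add, add_mul]
  | tmul b f =>
    induction y using TensorProduct.induction_on with
    | zero => simp
    | add x y hx hy => rw [mul_add, map_add, hx, hy, map_add, mul_add]
    | tmul c g =>
      rw [Algebra.TensorProduct.tmul_mul_tmul, evc_tmul, evc_tmul, evc_tmul, ConstGrp.mul_apply,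
        smul_mul_smul_comm]

theorem evc_one (γ : Γ) : evc R B γ 1 = 1 := by
  rw [Algebra.TensorProduct.one_def, evc_tmul, ConstGrp.one_apply, one_smul]

end EvAlg

end K915.ConstActCoaction
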