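import Groth.Agent.CoactBr.K836.Orbits
import Groth.Agent.ConstAct.K915.Coaction
import Groth.Agent.GrpQ.H766.AffineCase
import Groth.Agent.GrpQ.H766.LocalStr
import Groth.Agent.AlgSt.K746.Good
import Groth.Prelude.Def_ConstAct2

/-! `Spec A ⟶ Spec A^G` is a geometric quotient of the action groupoid of the constant group scheme. -/

set_option autoImplicit false
universe u

open CategoryTheory MonoidalCategory CartesianMonoidalCategory MonObj AlgebraicGeometry TensorProduct
open CoactBr

namespace K915.ConstGeom

variable (R : Type u) [CommRing R] (A : Type u) [CommRing A] [Algebra R A]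
variable (G : Type u) [Group G] [Fintype G] [DecidableEq G] [MulSemiringAction G A] [SMulCommClass G R A]

open ConstAct K915.ConstActCoaction

theorem mem_invariants_iff (a : A) :
    (let _ := comod R A G
     have _ := isCoactAlg R A G
     a ∈ GLin.invariants R (ConstGrp.F R G) A) ↔ a ∈ inv R A G := by
  have key : coactLin R A G a = a ⊗ₜ[R] (1 : ConstGrp.F R G) ↔ ∀ g : G, g • a = a := by
    constructor
    · intro h g
      have h1 := congrArg (evc R A g) h
      rw [coactLin_apply, map_sum, evc_tmul, ConstGrp.one_apply, one_smul] at h1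
      simp only [evc_e, Finset.sum_ite_eq, Finset.mem_univ, if_true] at h1
      exact h1
    · intro h
      rw [coactLin_apply]
      simp only [h]
      rw [← TensorProduct.tmul_sum, ConstGrp.sum_e]
  exact key

/-- the action groupoid -/
noncomputable abbrev gr : Grpd.GroupoidScheme (Spec (CommRingCat.of R)) :=
  Groth.Agent.Sga3.H775.ActGrpd.actGrpd (gaction R A G)

instance : IsAffine (gr R A G).U := inferInstanceAs (IsAffine (Spec (CommRingCat.of A)))

instance : IsAffine (gr R A G).R :=
  inferInstanceAs (IsAffine (Limits.pullback (Spec.map (CommRingCat.ofHom (algebraMap R (ConstGrp.F R G))))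
    (Spec.map (CommRingCat.ofHom (algebraMap R A)))))

instance : IsFinite (gr R A G).s := by
  let _ := comod R A G
  have _ := isCoactAlg R A G
  exact (inferInstance : IsFinite (K836.Inertia.gr R (ConstGrp.F R G) A).s)

instance : Flat (gr R A G).s := by
  let _ := comod R A G
  have _ := isCoactAlg R A G
  exact (inferInstance : Flat (K836.Inertia.gr R (ConstGrp.F R G) A).s)

instance : LocallyOfFinitePresentation (gr R A G).s := by
  let _ := comod R A G
  have _ := isCoactAlg R A G
  exact (inferInstance : LocallyOfFinitePresentation (K836.Inertia.gr R (ConstGrp.F R G) A).s)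

theorem good : K746.Good (gr R A G) := K746.Good.of_isAffine

instance : IsFinite (gr R A G).t := (good R A G).flf_t.1

instance : Flat (gr R A G).t := (good R A G).flf_t.2.1

instance : LocallyOfFinitePresentation (gr R A G).t := (good R A G).flf_t.2.2

omit [Fintype G] [DecidableEq G] in
theorem quot_eq : quot R A G = pt (inv R A G).val := rfl

/-- The quotient map is invariant. -/
theorem act_quot : (gaction R A G).act ≫ quot R A G = snd (GR R G) (X R A) ≫ quot R A G := by
  let _ := comod R A G
  have _ := isCoactAlg R A G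
  refine K836.Inertia.hom_ext (T := GR R G ⊗ X R A) (fun L _ _ j => ?_)
  obtain ⟨g, hg⟩ := K836.Inertia.exists_pt (j ≫ fst _ _)
  obtain ⟨x, hx⟩ := K836.Inertia.exists_pt (j ≫ snd _ _)
  have hj : j = lift (pt g) (pt x) := by rw [hg, hx, lift_comp_fst_snd]
  rw [hj, lift_snd_assoc, gaction_eq, ← Category.assoc, lift_pt_action_act]
  refine (pt_comp (inv R A G).val _).symm.trans (Eq.trans ?_ (pt_comp (inv R A G).val _))
  congr 1
  ext a
  have h1 : GLin.coactAlgHom R (ConstGrp.F R G) A (a : A) = (a : A) ⊗ₜ[R] (1 : ConstGrp.F R G) :=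
    (mem_invariants_iff R A G a.1).mpr a.2
  change (Algebra.TensorProduct.lift x (g.comp (HopfAlgebra.antipodeAlgHom R (ConstGrp.F R G)))
    fun _ _ => .all _ _) (GLin.coactAlgHom R (ConstGrp.F R G) A (a : A)) = x a
  rw [h1, Algebra.TensorProduct.lift_tmul, map_one, _root_.mul_one]

open Groth.Agent.GrpQ.H766.GeomQuotDef Groth.Agent.GrpQ.H766

theorem appTop_eq {a : A} (ha : a ∈ inv R A G) :
    (gr R A G).s.appTop ((Scheme.ΓSpecIso (CommRingCat.of A)).inv a) =
      (gr R A G).t.appTop ((Scheme.ΓSpecIso (CommRingCat.of A)).inv a) := by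
  have h1 : (quot R A G).left.appTop ((Scheme.ΓSpecIso (CommRingCat.of (inv R A G))).inv ⟨a, ha⟩) =
      (Scheme.ΓSpecIso (CommRingCat.of A)).inv a :=
    (CategoryTheory.congr_fun (Scheme.ΓSpecIso_inv_naturality
      (CommRingCat.ofHom (inv R A G).val.toRingHom)) (⟨a, ha⟩ : inv R A G)).symm
  have h2 : (gr R A G).s ≫ (quot R A G).left = (gr R A G).t ≫ (quot R A G).left :=
    (congrArg CommaMorphism.left (act_quot R A G)).symm
  rw [← h1]
  have h3 := congrArg (fun f => Scheme.Hom.appTop f
    ((Scheme.ΓSpecIso (CommRingCat.of (inv R A G))).inv ⟨a, ha⟩)) h2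
  simp only [Scheme.Hom.comp_appTop] at h3
  exact h3

/-- The ring of invariants of the groupoid. -/
noncomputable def theta : inv R A G →+* (gr R A G).invariants :=
  ((Scheme.ΓSpecIso (CommRingCat.of A)).inv.hom.comp (inv R A G).val.toRingHom).codRestrict _
    (fun a => appTop_eq R A G a.2)

theorem theta_bijective : Function.Bijective (theta R A G) := by
  have hb := ConcreteCategory.bijective_of_isIso (Scheme.ΓSpecIso (CommRingCat.of A)).inv
  constructor
  · intro a b h
    have h1 := congrArg Subtype.val h
    exact Subtype.ext (hb.1 h1)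
  · rintro ⟨c, hc⟩
    let _ := comod R A G
    have _ := isCoactAlg R A G
    have h1 := K836.Inertia.inv_mem (R := R) (A := ConstGrp.F R G) (B := A) hc
    refine ⟨⟨(Scheme.ΓSpecIso (CommRingCat.of A)).hom c, (mem_invariants_iff R A G _).mp h1⟩, ?_⟩
    apply Subtype.ext
    exact CategoryTheory.congr_fun (Scheme.ΓSpecIso (CommRingCat.of A)).hom_inv_id c

/-- `Spec A ⟶ Spec A^G` is a geometric quotient of the action groupoid. -/
theorem isGeomQuot : IsGeomQuot (gr R A G).s (gr R A G).t (quot R A G).left := by
  have h1 := AffineCase.isGeomQuot_toQuot (gr R A G)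
  have hi : IsIso (CommRingCat.ofHom (theta R A G)) :=
    (ConcreteCategory.isIso_iff_bijective _).mpr (theta_bijective R A G)
  have hi' : IsIso (Spec.map (CommRingCat.ofHom (theta R A G))) := inferInstance
  have h2 := LocalStr.comp_iso h1 (asIso (Spec.map (CommRingCat.ofHom (theta R A G))))
  have h3 : (gr R A G).toQuot ≫ Spec.map (CommRingCat.ofHom (theta R A G)) = (quot R A G).left := by
    rw [Grpd.GroupoidScheme.toQuot, Category.assoc, ← Spec.map_comp]
    have h4 : CommRingCat.ofHom (theta R A G) ≫ CommRingCat.ofHom (gr R A G).invariants.subtype =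
        CommRingCat.ofHom (inv R A G).val.toRingHom ≫ (Scheme.ΓSpecIso (CommRingCat.of A)).inv := rfl
    refine (congrArg (fun z => (Spec (CommRingCat.of A)).toSpecΓ ≫ Spec.map z) h4).trans ?_
    rw [Spec.map_comp, ← Category.assoc, toSpecΓ_SpecMap_ΓSpecIso_inv]
    exact Category.id_comp _
  rw [← h3]
  exact h2

end K915.ConstGeom
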