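import Groth.Agent.ConstAct.K915.Geom
import Groth.Agent.ConstAct.K915.ActQuot

/-! Geometric points of `Spec A^G`. -/

set_option autoImplicit false
universe u

open CategoryTheory MonoidalCategory CartesianMonoidalCategory MonObj AlgebraicGeometry TensorProduct
open CoactBr ConstAct

namespace K915.ConstGeom

variable (R : Type u) [CommRing R] (A : Type u) [CommRing A] [Algebra R A]
variable (G : Type u) [Group G] [Fintype G] [DecidableEq G] [MulSemiringAction G A] [SMulCommClass G R A]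

omit [MulSemiringAction G A] [SMulCommClass G R A] [Group G] in
/-- Points of the constant group with values in a field are constant. -/
theorem exists_constPt {Ω : Type u} [Field Ω] [Algebra R Ω] (c : ConstGrp.F R G →ₐ[R] Ω) :
    ∃ g : G, c = constPt R G g := by
  have h1 : ∑ g : G, c (ConstGrp.e R g) = 1 := by
    rw [← map_sum, ConstGrp.sum_e, map_one]
  obtain ⟨g, hg⟩ : ∃ g : G, c (ConstGrp.e R g) ≠ 0 := by
    by_contra h
    push Not at h
    simp only [h, Finset.sum_const_zero] at h1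
    exact zero_ne_one h1
  refine ⟨g, ConstGrp.algHom_ext fun h => ?_⟩
  have h2 : c (ConstGrp.e R g) * c (ConstGrp.e R g) = c (ConstGrp.e R g) := by
    rw [← map_mul, ConstGrp.e_mul_e, if_pos rfl]
  have h3 : c (ConstGrp.e R g) = 1 := mul_left_cancel₀ hg (h2.trans (_root_.mul_one _).symm)
  by_cases hh : h = g
  · subst hh
    rw [h3, constPt_apply, ConstGrp.e_apply_self, map_one]
  · have h4 : c (ConstGrp.e R g) * c (ConstGrp.e R h) = 0 := by
      rw [← map_mul, ConstGrp.e_mul_e, if_neg hh, map_zero]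
    rw [h3, _root_.one_mul] at h4
    rw [h4, constPt_apply, ConstGrp.e_apply_of_ne (Ne.symm hh), map_zero]

theorem exists_smul {Ω : Type u} [Field Ω] [IsAlgClosed Ω] [Algebra R Ω] (x x' : A →ₐ[R] Ω)
    (h : x.comp (inv R A G).val = x'.comp (inv R A G).val) :
    ∃ g : G, x' = x.comp (MulSemiringAction.toAlgEquiv R A g : A →ₐ[R] A) := by
  have h1 := (K915.ActQuot.orbits (gaction R A G) (quot R A G) (good R A G) (isGeomQuot R A G) Ω
    (Spec.map (CommRingCat.ofHom (algebraMap R Ω)))).2 (pt x') (pt x) (by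
      change pt x' ≫ pt (inv R A G).val = pt x ≫ pt (inv R A G).val
      rw [← pt_comp, ← pt_comp, h])
  obtain ⟨γ, hγ⟩ := h1
  obtain ⟨c, hc⟩ := K836.Inertia.exists_pt (R := R) (B := ConstGrp.F R G) (L := Ω) γ
  obtain ⟨g, rfl⟩ := exists_constPt R G c
  refine ⟨g⁻¹, pt_injective ?_⟩
  rw [pt_comp_toAlgEquiv, ← gaction_constPt, ← hγ, ← hc]
  rfl

theorem exists_ext {Ω : Type u} [Field Ω] [IsAlgClosed Ω] [Algebra R Ω] (y : inv R A G →ₐ[R] Ω) :
    ∃ x : A →ₐ[R] Ω, x.comp (inv R A G).val = y := by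
  obtain ⟨x, hx⟩ := (K915.ActQuot.orbits (gaction R A G) (quot R A G) (good R A G) (isGeomQuot R A G) Ω
    (Spec.map (CommRingCat.ofHom (algebraMap R Ω)))).1 (pt y)
  obtain ⟨c, hc⟩ := K836.Inertia.exists_pt (R := R) (B := A) (L := Ω) x
  refine ⟨c, pt_injective ?_⟩
  rw [pt_comp, hc]
  exact hx

end K915.ConstGeom
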