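import Groth.Agent.AlgSt.K746.QuotGeom
import Groth.Agent.AlgSt.K746.ModLoc
import Groth.Agent.AlgSt.K746.FlatBC
import Groth.Agent.AlgSt.K746.EtDesc
import Groth.Agent.AlgSt.K746.SpQuot
import Groth.Agent.ConstAct.K915.ActQuot

/-! Base change of `[X/G] ⟶ Y` along `Y' ⟶ Y`: the trivial torsors over `X' = X ×_Y Y'` cover
`Y' ×_Y [X/G]`; geometric points. -/

set_option autoImplicit false
set_option backward.isDefEq.respectTransparency false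
set_option backward.isDefEq.respectTransparency.types false

universe w v₄ u₄ v₃ u₃ v u

open CategoryTheory CategoryTheory.Limits MonoidalCategory CartesianMonoidalCategory MonObj GrpObj AlgebraicGeometry Opposite
open K734.Fib K750.TorsPts K746 K746.QuotMod

namespace K915.QuotBC

section Gen

variable {C : Type u} [Category.{v} C] {P : Cᵒᵖ ⥤ Type w} {𝒳 : BasedCategory.{v₃, u₃} C}
  {𝒴 : BasedCategory.{v₄, u₄} C}

theorem hom_eq_of_lift {a b : (Stk.ofPsh P).obj} {T T' : C} {f : T' ⟶ T} {φ ψ : a ⟶ b}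
    (h : (Stk.ofPsh P).p.IsHomLift f φ) (h' : (Stk.ofPsh P).p.IsHomLift f ψ) : φ = ψ := by
  have h1 := IsHomLift.fac' (Stk.ofPsh P).p f φ
  have h2 := IsHomLift.fac' (Stk.ofPsh P).p f ψ
  apply Stk.EltObj.hom_ext
  exact h1.trans h2.symm

theorem exists_homFp {F : 𝒴 ⥤ᵇ Stk.ofPsh P} {π : 𝒳 ⥤ᵇ Stk.ofPsh P} {z z' : (FibCat.fp F π).obj} {T T' : C}
    {f : T' ⟶ T} (a : z.obj.fst ⟶ z'.obj.fst) (b : z.obj.snd ⟶ z'.obj.snd) (ha : 𝒴.p.IsHomLift f a)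
    (hb : 𝒳.p.IsHomLift f b) :
    ∃ m : z ⟶ z', m.hom.fst = a ∧ m.hom.snd = b ∧ (FibCat.fp F π).p.IsHomLift f m := by
  have h1 : (Stk.ofPsh P).p.IsHomLift f (F.map a) := BasedFunctor.preserves_isHomLift F f a
  have h2 : (Stk.ofPsh P).p.IsHomLift f (π.map b) := BasedFunctor.preserves_isHomLift π f b
  have h3 : IsVert (Stk.ofPsh P) z.obj.iso.hom := iso_vert z
  have h4 : IsVert (Stk.ofPsh P) z'.obj.iso.hom := iso_vert z'
  have h5 : (Stk.ofPsh P).p.IsHomLift (𝟙 T') z.obj.iso.hom := h3.lift (IsHomLift.domain_eq _ f (F.map a))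
  have h6 : (Stk.ofPsh P).p.IsHomLift (𝟙 T) z'.obj.iso.hom := h4.lift (IsHomLift.codomain_eq _ f (F.map a))
  have h7 : (Stk.ofPsh P).p.IsHomLift f (F.map a ≫ z'.obj.iso.hom) := by
    have : (Stk.ofPsh P).p.IsHomLift (f ≫ 𝟙 T) (F.map a ≫ z'.obj.iso.hom) := inferInstance
    rwa [Category.comp_id] at this
  have h8 : (Stk.ofPsh P).p.IsHomLift f (z.obj.iso.hom ≫ π.map b) := by
    have : (Stk.ofPsh P).p.IsHomLift (𝟙 T' ≫ f) (z.obj.iso.hom ≫ π.map b) := inferInstance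
    rwa [Category.id_comp] at this
  refine ⟨mkHomFp a b (hom_eq_of_lift h7 h8), rfl, rfl, ?_⟩
  rw [← BasedFunctor.isHomLift_iff (FibCat.fpFst F π)]
  exact ha

end Gen

/-- Bijectivity on geometric points is stable under base change. -/
theorem geomPtBij_fpFst {S : Scheme.{u}} {𝒳 : BasedCategory.{v₃, u₃} (Over S)} (h𝒳 : FibCat.IsFibGrpd 𝒳.p)
    {M M' : AlgSp.Sp S} (g : M' ⟶ M) {π : 𝒳 ⥤ᵇ AlgSt.ofSp M} (h : AlgSt.GeomPtBij π) :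
    AlgSt.GeomPtBij (FibCat.fpFst (AlgSt.ofSpMap g) π) := by
  intro Ω _ _ t
  refine ⟨fun y => ?_, ?_⟩
  · obtain ⟨x, hx⟩ := (h Ω t).1 (g.hom.app (op (Over.mk t)) y)
    have h1 := (fibSec_eq_iff π x _).1 hx
    have h2 : (AlgSt.ofSpMap g).obj ⟨Over.mk t, y⟩ = π.obj x.1 := h1.symm
    refine ⟨⟨mkObj (F := AlgSt.ofSpMap g) (G := π) ⟨Over.mk t, y⟩ x.1 (eqToIso h2) (IsVert.eqToHom h2), rfl⟩,
      (fibSec_eq_iff _ _ _).2 rfl⟩
  · intro z z' hzz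
    have hz := (fibSec_eq_iff _ z _).1 hzz
    have hz' := (fibSec_eq_iff (FibCat.fpFst (AlgSt.ofSpMap g) π) z' _).1 rfl
    have h1 : z.1.obj.fst = z'.1.obj.fst := hz.trans hz'.symm
    have hb : 𝒳.p.obj z.1.obj.snd = Over.mk t :=
      ((FibCat.fpSnd (AlgSt.ofSpMap g) π).w_obj z.1).trans z.2
    have hb' : 𝒳.p.obj z'.1.obj.snd = Over.mk t :=
      ((FibCat.fpSnd (AlgSt.ofSpMap g) π).w_obj z'.1).trans z'.2
    have e1 : (AlgSt.ofSpMap g).obj z.1.obj.fst = π.obj z.1.obj.snd := eq_of_vert (iso_vert z.1)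
    have e2 : (AlgSt.ofSpMap g).obj z'.1.obj.fst = π.obj z'.1.obj.snd := eq_of_vert (iso_vert z'.1)
    have e3 : π.obj z.1.obj.snd = π.obj z'.1.obj.snd := by rw [← e1, ← e2, h1]
    obtain ⟨i⟩ := (h Ω t).2 ⟨z.1.obj.snd, hb⟩ ⟨z'.1.obj.snd, hb'⟩ (by
      rw [fibSec_eq_iff]
      exact e3.trans ((fibSec_eq_iff π ⟨z'.1.obj.snd, hb'⟩ _).1 rfl))
    obtain ⟨φ, hφ⟩ := exists_vert_of_fiberIso i
    have hv1 : IsVert (AlgSt.ofSp M') (eqToHom h1) := IsVert.eqToHom h1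
    obtain ⟨m, -, -, hm⟩ := exists_homFp (z := z.1) (z' := z'.1) (eqToHom h1) φ (hv1.lift z.2) (hφ.lift hb)
    exact nonempty_fiberIso (isFibGrpd_fp _ _ (isFibGrpd_ofPsh' _) h𝒳 (isFibGrpd_ofPsh' _)) m (IsVert.of_lift hm)

section Kappa

variable {S : Scheme.{u}} {G : Over S} [GrpObj G] {X : Over S} {aX : AlgGrp.Action G X}
  {Y Y' X' : Over S} {f : X ⟶ Y} {g : Y' ⟶ Y} {c : X' ⟶ X} {q : X' ⟶ Y'}
  {π : AlgSt.QuotSt Scheme.fppfPrecoverage G aX ⥤ᵇ AlgSt.ofSch Y}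

/-- The value of `π` on a torsor, on the torsor itself. -/
theorem val_torsor
    (hπ : Nonempty (BasedFunctor.comp (AlgSt.quotMap Scheme.fppfPrecoverage G aX) π ≅
      AlgSt.ofSpMap ((AlgSp.yon S).map f)))
    (A : AlgSt.QuotObj Scheme.fppfPrecoverage G aX) (y : A.base ⟶ Y) (hy : π.obj A = ⟨A.base, ⟨y⟩⟩) :
    A.π ≫ y = A.φ ≫ f := by
  have hl : (AlgSt.QuotSt Scheme.fppfPrecoverage G aX).p.IsHomLift A.π (K745.QuotDesc.actHom A) :=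
    IsHomLift.map _ (K745.QuotDesc.actHom A)
  have h1 := secOf_map π (z := A) (z' := q G aX A.φ) (T := A.base) (T' := A.P) rfl rfl hl
  rw [secOf_eq π _ hy, secOf_eq π _ ((nonempty_iso_ofPsh_iff.1 hπ) ⟨A.P, ⟨A.φ⟩⟩)] at h1
  exact congrArg ULift.down h1

theorem kappa_w
    (hπ : Nonempty (BasedFunctor.comp (AlgSt.quotMap Scheme.fppfPrecoverage G aX) π ≅
      AlgSt.ofSpMap ((AlgSp.yon S).map f))) (w : c ≫ f = q ≫ g) :
    BasedFunctor.comp (AlgSt.ofSpMap ((AlgSp.yon S).map q)) (AlgSt.ofSpMap ((AlgSp.yon S).map g)) =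
      BasedFunctor.comp (BasedFunctor.comp (AlgSt.ofSpMap ((AlgSp.yon S).map c))
        (AlgSt.quotMap Scheme.fppfPrecoverage G aX)) π := by
  refine K745.QuotDesc.basedFunctor_ext _ _ ?_
  rintro ⟨T, ⟨x⟩⟩
  refine Eq.trans ?_ ((nonempty_iso_ofPsh_iff.1 hπ) ⟨T, ⟨x ≫ c⟩⟩).symm
  change (⟨T, ⟨(x ≫ q) ≫ g⟩⟩ : (AlgSt.ofSch Y).obj) = ⟨T, ⟨(x ≫ c) ≫ f⟩⟩
  rw [Category.assoc, Category.assoc, w]

/-- Trivial torsors over points of `X' = X ×_Y Y'`. -/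
noncomputable def kappa
    (hπ : Nonempty (BasedFunctor.comp (AlgSt.quotMap Scheme.fppfPrecoverage G aX) π ≅
      AlgSt.ofSpMap ((AlgSp.yon S).map f))) (w : c ≫ f = q ≫ g) :
    AlgSt.ofSch X' ⥤ᵇ FibCat.fp (AlgSt.ofSpMap ((AlgSp.yon S).map g)) π :=
  FibCat.fpLift (AlgSt.ofSpMap ((AlgSp.yon S).map q))
    (BasedFunctor.comp (AlgSt.ofSpMap ((AlgSp.yon S).map c)) (AlgSt.quotMap Scheme.fppfPrecoverage G aX))
    (eqToIso (kappa_w hπ w))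

theorem locSurj_kappa
    (hπ : Nonempty (BasedFunctor.comp (AlgSt.quotMap Scheme.fppfPrecoverage G aX) π ≅
      AlgSt.ofSpMap ((AlgSp.yon S).map f))) (sq : IsPullback c q f g) :
    LocSurj (AlgSp.J S) (kappa hπ sq.w) := by
  rintro ⟨⟨⟨T, ⟨y⟩⟩, A, i⟩, hz⟩
  have hv : IsVert (AlgSt.ofSch Y) i.hom := hz
  have he : (⟨T, ⟨y ≫ g⟩⟩ : (AlgSt.ofSch Y).obj) = π.obj A := eq_of_vert hv
  have hT : A.base = T := (π.w_obj A).symm.trans (congrArg Stk.EltObj.base he).symm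
  subst hT
  refine ⟨Sieve.generate (Presieve.singleton A.π), K745.QuotDesc.mem_J_of_locallyTrivial A.π A.loc, ?_⟩
  rintro T₁ _ ⟨Z, k, _, ⟨⟩, rfl⟩
  have h1 := val_torsor hπ A (y ≫ g) he.symm
  let x' : T₁ ⟶ X' := sq.lift (k ≫ A.φ) ((k ≫ A.π) ≫ y) (by
    simp only [Category.assoc]; rw [h1])
  have hx1 : x' ≫ c = k ≫ A.φ := sq.lift_fst _ _ _
  have hx2 : x' ≫ q = (k ≫ A.π) ≫ y := sq.lift_snd _ _ _
  let a : (⟨T₁, ⟨x' ≫ q⟩⟩ : (AlgSt.ofSch Y').obj) ⟶ ⟨A.base, ⟨y⟩⟩ := ⟨k ≫ A.π, by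
    change (⟨(k ≫ A.π) ≫ y⟩ : ULift (T₁ ⟶ Y')) = ⟨x' ≫ q⟩
    rw [hx2]⟩
  let b₀ : (⟨T₁, ⟨x' ≫ c⟩⟩ : (AlgSt.ofSch X).obj) ⟶ ⟨A.P, ⟨A.φ⟩⟩ := ⟨k, by
    change (⟨k ≫ A.φ⟩ : ULift (T₁ ⟶ X)) = ⟨x' ≫ c⟩
    rw [hx1]⟩
  let b := (AlgSt.quotMap Scheme.fppfPrecoverage G aX).map b₀ ≫ K745.QuotDesc.actHom A
  have ha : (AlgSt.ofSch Y').p.IsHomLift (k ≫ A.π) a := IsHomLift.map _ a
  have hb : (AlgSt.QuotSt Scheme.fppfPrecoverage G aX).p.IsHomLift (k ≫ A.π) b := IsHomLift.map _ b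
  obtain ⟨m, -, -, hm⟩ := exists_homFp (F := AlgSt.ofSpMap ((AlgSp.yon S).map g)) (π := π)
    (z := (kappa hπ sq.w).obj ⟨T₁, ⟨x'⟩⟩) (z' := ⟨⟨⟨A.base, ⟨y⟩⟩, A, i⟩, hz⟩) a b ha hb
  exact ⟨⟨T₁, ⟨x'⟩⟩, m, hm⟩

end Kappa

section Main

open Groth.Agent.GrpQ.H766.GeomQuotDef Groth.Agent.Sga3.H775.ActGrpd

variable {S : Scheme.{u}} {G : Over S} [GrpObj G] {X : Over S} {aX : AlgGrp.Action G X}
  {Y Y' : Over S} {f : X ⟶ Y} {g : Y' ⟶ Y}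
  {π : AlgSt.QuotSt Scheme.fppfPrecoverage G aX ⥤ᵇ AlgSt.ofSch Y}

theorem isPullback_over {X' : Over S} {c : X' ⟶ X} {q : X' ⟶ Y'}
    (sq : IsPullback c.left q.left f.left g.left) : IsPullback c q f g :=
  IsPullback.of_map (Over.forget S) (by ext; exact sq.w) sq

theorem exists_vert_q {T : Over S} (γ : T ⟶ G ⊗ X) :
    ∃ φ : q G aX (γ ≫ aX.act) ⟶ q G aX (γ ≫ snd G X),
      IsVert (AlgSt.QuotSt Scheme.fppfPrecoverage G aX) φ := by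
  obtain ⟨s₀, h0, h1⟩ := exists_sec_q (aX := aX) (γ ≫ aX.act)
  obtain ⟨h, hb, -⟩ := exists_hom_of_section (A := q G aX (γ ≫ aX.act)) (B := q G aX (γ ≫ snd G X)) (𝟙 _) s₀ h0
    (lift (γ ≫ fst G X) (𝟙 T)) (lift_snd _ _) (by
      rw [h1]
      change lift (γ ≫ fst G X) (𝟙 T) ≫ (G ◁ (γ ≫ snd G X)) ≫ aX.act = γ ≫ aX.act
      rw [lift_whiskerLeft_assoc, Category.id_comp, ← comp_lift, lift_fst_snd, Category.comp_id])
  exact ⟨h, isVert_iff.2 ⟨rfl, hb⟩⟩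

theorem isCoarseModuli_fpFst [IsAffine X.left] (hG : Mor2.IsFinLocFree (actGrpd aX).s)
    (hgood : K746.Good (actGrpd aX)) (hQ : IsGeomQuot (actGrpd aX).s (actGrpd aX).t f.left)
    (hπ : Nonempty (BasedFunctor.comp (AlgSt.quotMap Scheme.fppfPrecoverage G aX) π ≅
      AlgSt.ofSpMap ((AlgSp.yon S).map f))) [IsAffine Y'.left] [Flat g.left] :
    AlgSt.IsCoarseModuli (FibCat.fpFst (AlgSt.ofSpMap ((AlgSp.yon S).map g)) π) := by
  have hfq := K998.QuotFib.isFibGrpd_quotSt Scheme.fppfPrecoverage G aX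
  refine ⟨?_, geomPtBij_fpFst hfq ((AlgSp.yon S).map g)
    (geomPtBij (fun Ω _ _ t => K915.ActQuot.orbits _ _ hgood hQ Ω t) hπ)⟩
  have hinv : aX.act ≫ f = snd G X ≫ f := isInvariant_of_factors hπ
  have hp : (actGrpd aX).t ≫ f.left = (actGrpd aX).s ≫ f.left := congrArg CommaMorphism.left hinv
  obtain ⟨A, hA, hq⟩ := Act.exists_ofPullback (G := actGrpd aX) (c := pullback.fst f.left g.left) hp
    (IsPullback.of_hasPullback f.left g.left)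
  let X' : Over S := K746.SpQuot.oU A.gpd
  let c : X' ⟶ X := Over.homMk (pullback.fst f.left g.left) rfl
  let p : X' ⟶ Y' := Over.homMk (pullback.snd f.left g.left) (by
    change pullback.snd f.left g.left ≫ Y'.hom = pullback.fst f.left g.left ≫ X.hom
    rw [← Over.w g, ← Over.w f, pullback.condition_assoc])
  have sq : IsPullback c p f g := isPullback_over (IsPullback.of_hasPullback f.left g.left)
  have hXa : IsAffine (actGrpd aX).U := ‹IsAffine X.left›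
  have hQ' : IsGeomQuot A.gpd.s A.gpd.t p.left :=
    FlatBC.isGeomQuot_flat A hG hQ g.left p.left (IsPullback.of_hasPullback f.left g.left) hq
  have hfl : Mor2.IsFinLocFree A.gpd.s := EtDesc.isFinLocFree_gpd A hG
  have hYa : IsAffine Y.left := by
    have : IsFinite (actGrpd aX).t := hgood.flf_t.1
    exact Groth.Agent.GrpQ.H765.FinQuot.isAffine_of_isGeomQuot (actGrpd aX) hG hQ
  have hX'a : IsAffine A.gpd.U := inferInstanceAs (IsAffine (pullback f.left g.left))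
  refine (isCatModuliIn_iff_of_locSurj (isFibGrpd_fp _ _ (isFibGrpd_ofPsh' _) hfq (isFibGrpd_ofPsh' _))
    (isFibGrpd_ofPsh' _) (locSurj_kappa hπ sq) (p := AlgSt.ofSpMap ((AlgSp.yon S).map p)) (fun y => rfl)).2
    ⟨AlgSp.IsAlgSpace.yon_obj _, fun N hN a ha => ?_⟩
  let ψ : (AlgSp.yon S).obj X' ⟶ N := ⟨pshHom a⟩
  have hψa : ∀ {T : Over S} (x : T ⟶ X'), a.obj ⟨T, ⟨x⟩⟩ = ⟨T, ψ.hom.app (op T) ⟨x⟩⟩ := fun x =>
    obj_eq_pshHom a _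
  have hψ : (AlgSp.yon S).map (K746.SpQuot.os A.gpd) ≫ ψ = (AlgSp.yon S).map (K746.SpQuot.ot A.gpd) ≫ ψ := by
    apply ObjectProperty.hom_ext
    ext T ⟨r⟩
    change ψ.hom.app T ⟨r ≫ K746.SpQuot.os A.gpd⟩ = ψ.hom.app T ⟨r ≫ K746.SpQuot.ot A.gpd⟩
    let γ₀ : K746.SpQuot.oR A.gpd ⟶ G ⊗ X := Over.homMk A.hom.fR rfl
    let γ : T.unop ⟶ G ⊗ X := r ≫ γ₀
    have hγ1 : γ ≫ aX.act = (r ≫ K746.SpQuot.ot A.gpd) ≫ c := by
      simp only [γ, Category.assoc]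
      congr 1
      apply Over.OverMorphism.ext
      exact A.hom.comm_t
    have hγ2 : γ ≫ snd G X = (r ≫ K746.SpQuot.os A.gpd) ≫ c := by
      simp only [γ, Category.assoc]
      congr 1
      apply Over.OverMorphism.ext
      exact A.hom.comm_s
    have hv := exists_vert_q (aX := aX) γ
    rw [hγ1, hγ2] at hv
    obtain ⟨φ, hφ⟩ := hv
    have h3 : (r ≫ K746.SpQuot.ot A.gpd) ≫ p = (r ≫ K746.SpQuot.os A.gpd) ≫ p := by
      simp only [Category.assoc]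
      congr 1
      apply Over.OverMorphism.ext
      exact hq
    have h4 : (⟨T.unop, ⟨(r ≫ K746.SpQuot.ot A.gpd) ≫ p⟩⟩ : (AlgSt.ofSch Y').obj) =
        ⟨T.unop, ⟨(r ≫ K746.SpQuot.os A.gpd) ≫ p⟩⟩ := by rw [h3]
    obtain ⟨m, -, -, hm⟩ := exists_homFp (F := AlgSt.ofSpMap ((AlgSp.yon S).map g)) (π := π)
      (z := (kappa hπ sq.w).obj ⟨T.unop, ⟨r ≫ K746.SpQuot.ot A.gpd⟩⟩)
      (z' := (kappa hπ sq.w).obj ⟨T.unop, ⟨r ≫ K746.SpQuot.os A.gpd⟩⟩) (eqToHom h4) φ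
      ((IsVert.eqToHom h4).lift (R := T.unop) rfl) (hφ.lift rfl)
    exact (elt_inj ((hψa _).symm.trans ((ha _ _ m (IsVert.of_lift hm)).trans (hψa _)))).symm
  obtain ⟨b, hb, hu⟩ := K746.SpQuot.existsUnique_desc (G := A.gpd) (Y := Y') (p := p) hfl hQ' hN ψ hψ
  have key : ∀ b' : (AlgSp.yon S).obj Y' ⟶ N, (∀ y, (BasedFunctor.comp (AlgSt.ofSpMap ((AlgSp.yon S).map p))
      (AlgSt.ofSpMap b')).obj y = a.obj y) ↔ (AlgSp.yon S).map p ≫ b' = ψ := by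
    intro b'
    constructor
    · intro h
      apply ObjectProperty.hom_ext
      ext T ⟨x⟩
      exact elt_inj ((h ⟨T.unop, ⟨x⟩⟩).trans (hψa x))
    · rintro h ⟨T, ⟨x⟩⟩
      rw [hψa x, ← h]
      rfl
  exact ⟨b, (key b).2 hb, fun b' hb' => hu b' ((key b').1 hb')⟩

end Main

end K915.QuotBC
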