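-- Pseudo-reflections of a local ring: the ideal of the elements `g • a - a` is principal.
import Groth.Prelude.Def_ConstAct
import Mathlib.RingTheory.Filtration
import Mathlib.RingTheory.LocalRing.ResidueField.Basic
import Mathlib.LinearAlgebra.FiniteDimensional.Lemmas
import Mathlib.LinearAlgebra.Dimension.Finite
import Mathlib.RingTheory.Nakayama
import Mathlib.Tactic

set_option autoImplicit false
universe u v

open IsLocalRing

namespace K915.Reflection

section Group

variable {k : Type u} [Field k] {A : Type u} [CommRing A] [Algebra k A] {G : Type u} [Group G]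
  [MulSemiringAction G A] [SMulCommClass G k A]

theorem smul_algebraMap' (g : G) (c : k) : g • algebraMap k A c = algebraMap k A c := by
  rw [Algebra.algebraMap_eq_smul_one, smul_comm, smul_one]

variable [IsLocalRing A]

theorem smul_mem_maximalIdeal (g : G) {a : A} (ha : a ∈ maximalIdeal A) : g • a ∈ maximalIdeal A := by
  rw [mem_maximalIdeal, mem_nonunits_iff] at ha ⊢
  intro h
  apply ha
  have := h.map (MulSemiringAction.toRingHom G A g⁻¹)
  simpa using this

theorem smul_mem_maximalIdeal_pow (g : G) (j : ℕ) {a : A} (ha : a ∈ maximalIdeal A ^ j) :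
    g • a ∈ maximalIdeal A ^ j := by
  have h1 : (maximalIdeal A ^ j).map (MulSemiringAction.toRingHom G A g) ≤ maximalIdeal A ^ j := by
    rw [Ideal.map_pow]
    apply Ideal.pow_right_mono
    rw [Ideal.map_le_iff_le_comap]
    intro b hb
    exact smul_mem_maximalIdeal g hb
  exact h1 (Ideal.mem_map_of_mem _ ha)

/-- `g • a - a ∈ M` when the residue field is `k`. -/
theorem smul_sub_mem (hres : ∀ a : A, ∃ c : k, a - algebraMap k A c ∈ maximalIdeal A) (g : G) (a : A) :
    g • a - a ∈ maximalIdeal A := by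
  obtain ⟨c, hc⟩ := hres a
  have h1 : g • a - a = g • (a - algebraMap k A c) - (a - algebraMap k A c) := by
    rw [smul_sub, smul_algebraMap']; ring
  rw [h1]
  exact Ideal.sub_mem _ (smul_mem_maximalIdeal g hc) hc

/-- The averaging operator of the cyclic group generated by `g`. -/
noncomputable def avg (N : ℕ) (ζ : k) (g : G) (a : A) : A :=
  (N : k)⁻¹ • ∑ i ∈ Finset.range N, ζ⁻¹ ^ i • (g ^ i • a)

omit [IsLocalRing A] in
theorem smul_avg {N : ℕ} (hN : 0 < N) {ζ : k} (hζ : ζ ^ N = 1) (g : G) (hg : g ^ N = 1) (a : A) :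
    g • avg N ζ g a = ζ • avg N ζ g a := by
  have hζ0 : ζ ≠ 0 := by
    rintro rfl
    rw [zero_pow hN.ne'] at hζ
    exact zero_ne_one hζ
  rw [avg, smul_comm g, smul_comm ζ]
  congr 1
  rw [Finset.smul_sum]
  have h1 : ∀ i, g • ζ⁻¹ ^ i • g ^ i • a = ζ • (ζ⁻¹ ^ (i + 1) • (g ^ (i + 1) • a)) := by
    intro i
    rw [smul_comm g, smul_smul ζ, pow_succ' ζ⁻¹, ← mul_assoc, mul_inv_cancel₀ hζ0, one_mul, pow_succ' g,
      mul_smul]
  rw [Finset.sum_congr rfl fun i _ => h1 i]
  -- a cyclic shift
  rw [← Finset.smul_sum]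
  congr 1
  obtain ⟨m, rfl⟩ := Nat.exists_eq_succ_of_ne_zero hN.ne'
  rw [Finset.sum_range_succ, Finset.sum_range_succ' (fun i => ζ⁻¹ ^ i • g ^ i • a)]
  congr 1
  rw [show m + 1 = m.succ from rfl, hg, inv_pow, hζ]
  simp

omit [SMulCommClass G k A] [IsLocalRing A] in
/-- If `g ^ i • a ≡ ζ ^ i a` modulo an ideal `J` stable by the scalars, then `avg a ≡ a` modulo `J`. -/
theorem avg_sub_mem (J : Ideal A) {N : ℕ} (hNk : (N : k) ≠ 0) {ζ : k} (hζ0 : ζ ≠ 0) (g : G) (a : A)
    (h : ∀ i, g ^ i • a - ζ ^ i • a ∈ J) : avg N ζ g a - a ∈ J := by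
  have h1 : avg N ζ g a - a = (N : k)⁻¹ • ∑ i ∈ Finset.range N, ζ⁻¹ ^ i • (g ^ i • a - ζ ^ i • a) := by
    rw [avg]
    have h2 : ∀ i, ζ⁻¹ ^ i • (g ^ i • a - ζ ^ i • a) = ζ⁻¹ ^ i • g ^ i • a - a := by
      intro i
      rw [smul_sub, smul_smul, ← mul_pow, inv_mul_cancel₀ hζ0, one_pow, one_smul]
    rw [Finset.sum_congr rfl fun i _ => h2 i, Finset.sum_sub_distrib, Finset.sum_const, Finset.card_range,
      smul_sub]
    congr 1
    rw [← Nat.cast_smul_eq_nsmul k, smul_smul, inv_mul_cancel₀ hNk, one_smul]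
  rw [h1]
  have h3 : ∀ (c : k) (x : A), x ∈ J → c • x ∈ J := fun c x hx => by
    rw [Algebra.smul_def]; exact J.mul_mem_left _ hx
  refine h3 _ _ (Ideal.sum_mem _ fun i _ => h3 _ _ (h i))

end Group

section Main

variable {k : Type u} [Field k] {A : Type u} [CommRing A] [IsLocalRing A] [IsNoetherianRing A] [Algebra k A]
  {G : Type u} [Group G] [MulSemiringAction G A] [SMulCommClass G k A]
  (hres : ∀ a : A, ∃ c : k, a - algebraMap k A c ∈ maximalIdeal A)

include hres

/-- If the maximal ideal is generated by an eigenvector `x` and invariants modulo its square, then `g` acts trivially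
modulo `x`. -/
theorem smul_sub_mem_span (g : G) {N : ℕ} (hN : 0 < N) (hNk : (N : k) ≠ 0) (hg : g ^ N = 1) (x : A)
    (hx : x ∈ maximalIdeal A) (ζ : k) (hgx : g • x = ζ • x)
    (hw : ∀ a : A, ∃ c : k, g • a - a - c • x ∈ maximalIdeal A ^ 2) (a : A) : g • a - a ∈ Ideal.span {x} := by
  set M := maximalIdeal A with hM
  -- the ideal generated by the invariants of `M` and `x`
  let J : Ideal A := Ideal.span ({y | y ∈ M ∧ g • y = y} ∪ {x})
  have hJM : J ≤ M := by
    rw [Ideal.span_le]
    rintro y (⟨hy, -⟩ | rfl)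
    · exact hy
    · exact hx
  -- `g ^ i • a - a` is a multiple of `x` modulo `M ^ 2`
  have hw' : ∀ (i : ℕ) (a : A), ∃ c : k, g ^ i • a - a - c • x ∈ M ^ 2 := by
    intro i
    induction i with
    | zero => intro a; exact ⟨0, by simp⟩
    | succ i ih =>
      intro a
      obtain ⟨c, hc⟩ := ih a
      obtain ⟨c', hc'⟩ := hw (g ^ i • a)
      refine ⟨c + c', ?_⟩
      have : g ^ (i + 1) • a - a - (c + c') • x = (g ^ i • a - a - c • x) +
          (g • g ^ i • a - g ^ i • a - c' • x) := by
        rw [pow_succ' g, mul_smul, add_smul]; ring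
      rw [this]
      exact Ideal.add_mem _ hc hc'
  have hMJ : M ≤ J ⊔ M • M := by
    intro a ha
    -- the invariant part
    have h1 : g • avg N (1 : k) g a = avg N (1 : k) g a := by
      rw [smul_avg hN (one_pow N) g hg, one_smul]
    have h2 : avg N (1 : k) g a ∈ M := by
      rw [avg]
      have h3 : ∀ (c : k) (x : A), x ∈ M → c • x ∈ M := fun c x hx => by
        rw [Algebra.smul_def]; exact M.mul_mem_left _ hx
      exact h3 _ _ (Ideal.sum_mem _ fun i _ => h3 _ _ (smul_mem_maximalIdeal _ ha))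
    have h3 : avg N (1 : k) g a - a ∈ J ⊔ M • M := by
      refine avg_sub_mem _ hNk one_ne_zero g a fun i => ?_
      obtain ⟨c, hc⟩ := hw' i a
      have h4 : g ^ i • a - (1 : k) ^ i • a = c • x + (g ^ i • a - a - c • x) := by
        rw [one_pow, one_smul]; ring
      rw [h4]
      refine Ideal.add_mem _ (Ideal.mem_sup_left ?_) (Ideal.mem_sup_right ?_)
      · rw [Algebra.smul_def]
        exact J.mul_mem_left _ (Ideal.subset_span (Or.inr rfl))
      · rw [smul_eq_mul, ← pow_two]; exact hc
    have h4 : a = avg N (1 : k) g a - (avg N (1 : k) g a - a) := by ring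
    rw [h4]
    exact Ideal.sub_mem _ (Ideal.mem_sup_left (Ideal.subset_span (Or.inl ⟨h2, h1⟩))) h3
  have hMJ' : M ≤ J := by
    apply Submodule.le_of_le_smul_of_le_jacobson_bot (IsNoetherian.noetherian M) _ hMJ
    rw [IsLocalRing.jacobson_eq_maximalIdeal ⊥ bot_ne_top]
  -- the main induction
  have key : ∀ (j : ℕ) (a : A), g • a - a ∈ Ideal.span {x} ⊔ M ^ (j + 1) := by
    intro j
    induction j with
    | zero =>
      intro a
      rw [zero_add, pow_one]
      exact Ideal.mem_sup_right (smul_sub_mem hres g a)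
    | succ j ih =>
      intro a
      obtain ⟨c, hc⟩ := hres a
      have h1 : g • a - a = g • (a - algebraMap k A c) - (a - algebraMap k A c) := by
        rw [smul_sub, smul_algebraMap']; ring
      rw [h1]
      generalize a - algebraMap k A c = b at hc
      have hb : b ∈ J := hMJ' hc
      clear h1 hc
      -- induction on the span
      refine Submodule.span_induction (p := fun b _ => g • b - b ∈ Ideal.span {x} ⊔ M ^ (j + 1 + 1)) ?_ ?_ ?_ ?_ hb
      · rintro y (⟨hy, hgy⟩ | rfl)
        · rw [hgy, sub_self]; exact Ideal.zero_mem _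
        · refine Ideal.mem_sup_left ?_
          rw [hgx]
          refine Ideal.sub_mem _ ?_ (Ideal.mem_span_singleton_self _)
          rw [Algebra.smul_def]
          exact Ideal.mul_mem_left _ _ (Ideal.mem_span_singleton_self _)
      · rw [smul_zero, sub_self]; exact Ideal.zero_mem _
      · intro y z _ _ hy hz
        have : g • (y + z) - (y + z) = (g • y - y) + (g • z - z) := by rw [smul_add]; ring
        rw [this]
        exact Ideal.add_mem _ hy hz
      · intro r y hy hgy
        have hyM : y ∈ M := hJM hy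
        have : g • (r • y) - r • y = (g • r) * (g • y - y) + (g • r - r) * y := by
          rw [smul_eq_mul, smul_mul']; ring
        rw [this]
        refine Ideal.add_mem _ (Ideal.mul_mem_left _ _ hgy) ?_
        have h5 := ih r
        have h6 : (g • r - r) * y ∈ (Ideal.span {x} ⊔ M ^ (j + 1)) * M := Ideal.mul_mem_mul h5 hyM
        rw [Ideal.sup_mul, ← pow_succ] at h6
        have h7 : Ideal.span {x} * M ⊔ M ^ (j + 1 + 1) ≤ Ideal.span {x} ⊔ M ^ (j + 1 + 1) :=
          sup_le_sup_right Ideal.mul_le_left _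
        exact h7 h6
  -- Krull intersection in `A ⧸ (x)`
  by_cases htop : Ideal.span {x} = ⊤
  · rw [htop]; trivial
  have : Nontrivial (A ⧸ Ideal.span {x}) := Ideal.Quotient.nontrivial_iff.mpr htop
  have hloc : IsLocalRing (A ⧸ Ideal.span {x}) :=
    IsLocalRing.of_surjective' (Ideal.Quotient.mk (Ideal.span {x})) Ideal.Quotient.mk_surjective
  rw [← Ideal.Quotient.eq_zero_iff_mem, ← Ideal.mem_bot,
    ← Ideal.iInf_pow_eq_bot_of_isLocalRing (M.map (Ideal.Quotient.mk (Ideal.span {x}))), Ideal.mem_iInf]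
  · intro j
    have h1 := key j a
    rw [← Ideal.map_pow]
    have h2 : Ideal.Quotient.mk (Ideal.span {x}) (g • a - a) ∈
        (Ideal.span {x} ⊔ M ^ (j + 1)).map (Ideal.Quotient.mk (Ideal.span {x})) := Ideal.mem_map_of_mem _ h1
    rw [Ideal.map_sup, Ideal.map_quotient_self, bot_sup_eq] at h2
    exact Ideal.map_mono (Ideal.pow_le_pow_right (Nat.le_succ j)) h2
  · intro h
    have h1 : (M.map (Ideal.Quotient.mk (Ideal.span {x}))) ≤ maximalIdeal (A ⧸ Ideal.span {x}) := by
      rw [Ideal.map_le_iff_le_comap]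
      intro b hb
      rw [Ideal.mem_comap, mem_maximalIdeal, mem_nonunits_iff]
      intro hu
      obtain ⟨c, hc⟩ := hu.exists_right_inv
      obtain ⟨c, rfl⟩ := Ideal.Quotient.mk_surjective c
      rw [← map_mul, ← map_one (Ideal.Quotient.mk (Ideal.span {x})), Ideal.Quotient.mk_eq_mk_iff_sub_mem] at hc
      have h2 : b * c - 1 ∈ M := by
        refine (Ideal.span_le.mpr ?_ : Ideal.span {x} ≤ M) hc
        rintro _ rfl
        exact hx
      have h3 : (1 : A) ∈ M := by
        have h4 : (1 : A) = b * c - (b * c - 1) := by ring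
        rw [h4]
        exact Ideal.sub_mem _ (Ideal.mul_mem_right _ _ hb) h2
      exact (Ideal.ne_top_iff_one M).mp (maximalIdeal.isMaximal A).ne_top h3
    rw [h] at h1
    exact (maximalIdeal.isMaximal _).ne_top (top_le_iff.mp h1)

/-- For an element `g` of finite order invertible in `k`, such that any two of the `g • a - a` are proportional modulo
`M ^ 2`, the ideal generated by the `g • a - a` is principal. -/
theorem exists_span (g : G) {N : ℕ} (hN : 0 < N) (hNk : (N : k) ≠ 0) (hg : g ^ N = 1)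
    (hprop : ∀ a b : A, g • a - a ∉ maximalIdeal A ^ 2 → ∃ c : k, g • b - b - c • (g • a - a) ∈ maximalIdeal A ^ 2) :
    ∃ x ∈ maximalIdeal A, ∀ a : A, g • a - a ∈ Ideal.span {x} := by
  set M := maximalIdeal A with hM
  by_cases hall : ∀ a : A, g • a - a ∈ M ^ 2
  · refine ⟨0, Ideal.zero_mem _, smul_sub_mem_span hres g hN hNk hg 0 (Ideal.zero_mem _) 1 (by simp) ?_⟩
    intro a
    exact ⟨0, by simpa using hall a⟩
  · push Not at hall
    obtain ⟨a0, ha0⟩ := hall
    have hwM : g • a0 - a0 ∈ M := smul_sub_mem hres g a0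
    have hprop' := fun b => hprop a0 b ha0
    generalize g • a0 - a0 = w at ha0 hwM hprop'
    obtain ⟨c, hc⟩ := hprop' w
    -- the eigenvalue modulo `M ^ 2`
    let ζ : k := c + 1
    have hζw : g • w - ζ • w ∈ M ^ 2 := by
      have : g • w - ζ • w = g • w - w - c • w := by
        simp only [ζ, add_smul, one_smul]; ring
      rw [this]; exact hc
    have hpow : ∀ i, g ^ i • w - ζ ^ i • w ∈ M ^ 2 := by
      intro i
      induction i with
      | zero => simp
      | succ i ih =>
        have : g ^ (i + 1) • w - ζ ^ (i + 1) • w = g • (g ^ i • w - ζ ^ i • w) + ζ ^ i • (g • w - ζ • w) := by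
          rw [smul_sub, smul_sub, ← mul_smul, ← pow_succ', smul_comm g, smul_smul, ← pow_succ]; ring
        rw [this]
        refine Ideal.add_mem _ (smul_mem_maximalIdeal_pow g 2 ih) ?_
        rw [Algebra.smul_def]
        exact Ideal.mul_mem_left _ _ hζw
    have hunit : ∀ d : k, d • w ∈ M ^ 2 → d = 0 := by
      intro d hd
      by_contra hd0
      apply ha0
      have : w = d⁻¹ • (d • w) := by rw [smul_smul, inv_mul_cancel₀ hd0, one_smul]
      rw [this, Algebra.smul_def]
      exact Ideal.mul_mem_left _ _ hd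
    have hζN : ζ ^ N = 1 := by
      have h1 := hpow N
      rw [hg, one_smul] at h1
      have h2 : w - ζ ^ N • w = (1 - ζ ^ N) • w := by rw [sub_smul, one_smul]
      rw [h2] at h1
      exact (sub_eq_zero.mp (hunit _ h1)).symm
    have hζ0 : ζ ≠ 0 := by
      intro h0
      rw [h0, zero_pow hN.ne'] at hζN
      exact zero_ne_one hζN
    let x := avg N ζ g w
    have hxw : x - w ∈ M ^ 2 := avg_sub_mem _ hNk hζ0 g w hpow
    have hxM : x ∈ M := by
      have : x = (x - w) + w := by ring
      rw [this]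
      exact Ideal.add_mem _ (Ideal.pow_le_self two_ne_zero hxw) hwM
    refine ⟨x, hxM, smul_sub_mem_span hres g hN hNk hg x hxM ζ (smul_avg hN hζN g hg w) ?_⟩
    intro a
    obtain ⟨c, hc⟩ := hprop' a
    refine ⟨c, ?_⟩
    have : g • a - a - c • x = (g • a - a - c • w) - c • (x - w) := by rw [smul_sub]; ring
    rw [this]
    refine Ideal.sub_mem _ hc ?_
    rw [Algebra.smul_def]
    exact Ideal.mul_mem_left _ _ hxw

end Main

/-- Two elements of an ideal of codimension at most one modulo `M ^ 2` are proportional modulo `M ^ 2`. -/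
theorem exists_smul_sub_mem {k : Type u} [Field k] {A : Type u} [CommRing A] [Algebra k A] (I J : Ideal A) (n : ℕ)
    [Module.Finite k (A ⧸ J)] (h1 : Module.finrank k (A ⧸ J) ≤ n + 1) (h2 : n ≤ Module.finrank k (A ⧸ (I ⊔ J)))
    (v w : A) (hv : v ∈ I) (hw : w ∈ I) (hv0 : v ∉ J) : ∃ c : k, w - c • v ∈ J := by
  let π : (A ⧸ J) →ₗ[k] (A ⧸ (I ⊔ J)) := (Ideal.Quotient.factorₐ k (le_sup_right : J ≤ I ⊔ J)).toLinearMap
  have hπ : Function.Surjective π := Ideal.Quotient.factor_surjective (le_sup_right : J ≤ I ⊔ J)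
  have h3 := LinearMap.finrank_range_add_finrank_ker π
  rw [LinearMap.range_eq_top.mpr hπ, finrank_top] at h3
  have h4 : Module.finrank k (LinearMap.ker π) ≤ 1 := by omega
  have hmem : ∀ a ∈ I, (Ideal.Quotient.mk J a) ∈ LinearMap.ker π := by
    intro a ha
    rw [LinearMap.mem_ker]
    change Ideal.Quotient.mk (I ⊔ J) a = 0
    rw [Ideal.Quotient.eq_zero_iff_mem]
    exact Ideal.mem_sup_left ha
  rw [finrank_le_one_iff] at h4
  obtain ⟨⟨e, he⟩, h5⟩ := h4
  obtain ⟨a, ha⟩ := h5 ⟨_, hmem v hv⟩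
  obtain ⟨b, hb⟩ := h5 ⟨_, hmem w hw⟩
  have ha' : a • e = Ideal.Quotient.mk J v := congrArg Subtype.val ha
  have hb' : b • e = Ideal.Quotient.mk J w := congrArg Subtype.val hb
  have ha0 : a ≠ 0 := by
    rintro rfl
    rw [zero_smul] at ha'
    exact hv0 (Ideal.Quotient.eq_zero_iff_mem.mp ha'.symm)
  refine ⟨b * a⁻¹, ?_⟩
  rw [← Ideal.Quotient.eq_zero_iff_mem, map_sub]
  have h6 : Ideal.Quotient.mk J ((b * a⁻¹) • v) = (b * a⁻¹) • Ideal.Quotient.mk J v := rfl
  rw [h6, ← ha', ← hb', smul_smul, mul_assoc, inv_mul_cancel₀ ha0, mul_one, sub_self]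

end K915.Reflection
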