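-- Chevalley's theorem for local rings: generation by pseudo-reflections implies flatness over the invariants.
import Groth.Agent.ConstAct.K915.Reflection
import Mathlib.RingTheory.LocalRing.Module
import Mathlib.RingTheory.Flat.Basic

set_option autoImplicit false
universe u v

open IsLocalRing TensorProduct

namespace K915.ReflFlat

section Trace

variable (k : Type u) [Field k] (A : Type u) [CommRing A] [Algebra k A] (G : Type u) [Group G] [Fintype G]
  [MulSemiringAction G A] [SMulCommClass G k A]

/-- The action of `g` is linear over the invariants. -/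
def actLin (g : G) : A →ₗ[ConstAct.inv k A G] A where
  toFun a := g • a
  map_add' a b := smul_add g a b
  map_smul' s a := by
    change g • ((s : A) * a) = (s : A) * g • a
    rw [smul_mul', s.2 g]

omit [Fintype G] in
@[simp] theorem actLin_apply (g : G) (a : A) : actLin k A G g a = g • a := rfl

/-- The trace as a linear map to the invariants. -/
def tr : A →ₗ[ConstAct.inv k A G] ConstAct.inv k A G where
  toFun a := ⟨∑ g : G, g • a, fun h => by
    rw [Finset.smul_sum]
    refine Fintype.sum_equiv (Equiv.mulLeft h) _ _ fun g => ?_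
    rw [← mul_smul]; rfl⟩
  map_add' a b := by
    apply Subtype.ext
    change ∑ g : G, g • (a + b) = ∑ g : G, g • a + ∑ g : G, g • b
    rw [← Finset.sum_add_distrib]
    exact Finset.sum_congr rfl fun g _ => smul_add g a b
  map_smul' s a := by
    apply Subtype.ext
    change ∑ g : G, g • ((s : A) * a) = (s : A) * ∑ g : G, g • a
    rw [Finset.mul_sum]
    exact Finset.sum_congr rfl fun g _ => by rw [smul_mul', s.2 g]

@[simp] theorem coe_tr (a : A) : (tr k A G a : A) = ∑ g : G, g • a := rfl

theorem tr_coe (s : ConstAct.inv k A G) : tr k A G (s : A) = (Fintype.card G : k) • s := by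
  apply Subtype.ext
  rw [coe_tr]
  have : ∀ g : G, g • (s : A) = s := fun g => s.2 g
  simp only [this, Finset.sum_const, Finset.card_univ]
  change Fintype.card G • (s : A) = (Fintype.card G : k) • (s : A)
  rw [Nat.cast_smul_eq_nsmul]

variable {k A G}

theorem mem_of_mem_map (hG : (Fintype.card G : k) ≠ 0) (I : Ideal (ConstAct.inv k A G)) (s : ConstAct.inv k A G)
    (hs : (s : A) ∈ I.map (algebraMap (ConstAct.inv k A G) A)) : s ∈ I := by
  have h1 : ∀ a : A, a ∈ I.map (algebraMap (ConstAct.inv k A G) A) → tr k A G a ∈ I := by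
    intro a ha
    refine Submodule.span_induction (p := fun a _ => ∀ b : A, tr k A G (b * a) ∈ I) ?_ ?_ ?_ ?_ ha 1 |> fun h => by
      rwa [one_mul] at h
    · rintro _ ⟨t, ht, rfl⟩ b
      have : b * algebraMap (ConstAct.inv k A G) A t = t • b := by
        rw [Algebra.smul_def, mul_comm]
      rw [this, map_smul, smul_eq_mul]
      exact I.mul_mem_right _ ht
    · intro b; rw [mul_zero, map_zero]; exact I.zero_mem
    · intro x y _ _ hx hy b
      rw [mul_add, map_add]
      exact I.add_mem (hx b) (hy b)
    · intro r x _ hx b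
      rw [smul_eq_mul, ← mul_assoc]
      exact hx (b * r)
  have h2 := h1 _ hs
  rw [tr_coe] at h2
  have h3 : s = (Fintype.card G : k)⁻¹ • ((Fintype.card G : k) • s) := by
    rw [smul_smul, inv_mul_cancel₀ hG, one_smul]
  rw [h3, Algebra.smul_def]
  exact I.mul_mem_left _ h2

/-- The ring of invariants is Noetherian when the order of the group is invertible. -/
theorem isNoetherianRing_inv [IsNoetherianRing A] (hG : (Fintype.card G : k) ≠ 0) :
    IsNoetherianRing (ConstAct.inv k A G) := by
  rw [isNoetherianRing_iff, isNoetherian_iff']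
  have hmono : StrictMono fun I : Ideal (ConstAct.inv k A G) => I.map (algebraMap (ConstAct.inv k A G) A) := by
    apply Monotone.strictMono_of_injective
    · intro I J h; exact Ideal.map_mono h
    · intro I J h
      ext s
      constructor
      · intro hs
        apply mem_of_mem_map hG
        have h' : I.map (algebraMap (ConstAct.inv k A G) A) = J.map (algebraMap (ConstAct.inv k A G) A) := h
        rw [← h']
        exact Ideal.mem_map_of_mem _ hs
      · intro hs
        apply mem_of_mem_map hG
        have h' : I.map (algebraMap (ConstAct.inv k A G) A) = J.map (algebraMap (ConstAct.inv k A G) A) := h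
        rw [h']
        exact Ideal.mem_map_of_mem _ hs
  exact hmono.wellFoundedGT

omit [Fintype G] in
theorem isUnit_of_isUnit_coe (s : ConstAct.inv k A G) (hs : IsUnit (s : A)) : IsUnit s := by
  obtain ⟨b, hb⟩ := hs.exists_right_inv
  have hb' : b ∈ ConstAct.inv k A G := by
    intro g
    have h1 : (s : A) * (g • b) = 1 := by
      have h2 := congrArg (g • ·) hb
      simp only [smul_mul', smul_one] at h2
      rwa [s.2 g] at h2
    have h3 : b * ((s : A) * (g • b)) = b * ((s : A) * b) := by rw [h1, hb]
    rw [← mul_assoc, ← mul_assoc, mul_comm b, hb, one_mul, one_mul] at h3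
    exact h3
  exact IsUnit.of_mul_eq_one ⟨b, hb'⟩ (Subtype.ext hb)

instance isLocalHom_inv : IsLocalHom (algebraMap (ConstAct.inv k A G) A) :=
  ⟨fun s hs => isUnit_of_isUnit_coe s hs⟩

omit [Fintype G] in
theorem isLocalRing_inv [IsLocalRing A] : IsLocalRing (ConstAct.inv k A G) :=
  RingHom.domain_isLocalRing (algebraMap (ConstAct.inv k A G) A)

end Trace

section Flat

variable {k : Type u} [Field k] {A : Type u} [CommRing A] [Algebra k A] {G : Type u} [Group G] [Fintype G]
  [MulSemiringAction G A] [SMulCommClass G k A]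

omit [Fintype G] in
/-- The `S`-linear quotient `Δ` with `g • a - a = x Δ(a)`. -/
theorem exists_delta [IsDomain A] (g : G) (x : A) (hx : ∀ a : A, g • a - a ∈ Ideal.span {x}) :
    ∃ Δ : A →ₗ[ConstAct.inv k A G] A, ∀ a, g • a - a = x * Δ a := by
  by_cases hx0 : x = 0
  · refine ⟨0, fun a => ?_⟩
    have := hx a
    rw [hx0, Ideal.span_singleton_eq_bot.mpr rfl, Ideal.mem_bot] at this
    rw [this, hx0, zero_mul]
  · have h : ∀ a, ∃ d, g • a - a = x * d := fun a => Ideal.mem_span_singleton.mp (hx a)
    choose Δ hΔ using h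
    refine ⟨{ toFun := Δ, map_add' := ?_, map_smul' := ?_ }, hΔ⟩
    · intro a b
      apply mul_left_cancel₀ hx0
      rw [mul_add, ← hΔ, ← hΔ, ← hΔ, smul_add]; ring
    · intro s a
      apply mul_left_cancel₀ hx0
      rw [RingHom.id_apply, ← hΔ]
      change g • ((s : A) * a) - (s : A) * a = x * ((s : A) * Δ a)
      rw [smul_mul', s.2 g, ← mul_sub, hΔ]; ring

variable [IsLocalRing A] [IsNoetherianRing A]

/-- Chevalley's argument. -/
theorem rTensor_injective (hG : (Fintype.card G : k) ≠ 0) (I : Ideal (ConstAct.inv k A G)) (hI : I.FG)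
    (P : Set G) (hP : Subgroup.closure P = ⊤)
    (hrefl : ∀ g ∈ P, ∃ x ∈ maximalIdeal A, ∃ Δ : A →ₗ[ConstAct.inv k A G] A, ∀ a, g • a - a = x * Δ a) :
    Function.Injective (I.subtype.lTensor A) := by
  let S := ConstAct.inv k A G
  -- the kernel as an `A`-submodule of `A ⊗ I`
  let f : A ⊗[S] I →ₗ[A] A ⊗[S] S := I.subtype.baseChange A
  let T : Submodule A (A ⊗[S] I) := LinearMap.ker f
  have hT : ∀ t, t ∈ T ↔ I.subtype.lTensor A t = 0 := fun t => Iff.rfl
  have : Module.Finite S I := Module.Finite.iff_fg.mpr hI
  have hfin : Module.Finite A (A ⊗[S] I) := inferInstance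
  have hnoeth : IsNoetherian A (A ⊗[S] I) := inferInstance
  -- naturality of the kernel
  have hnat : ∀ (φ : A →ₗ[S] A) (t : A ⊗[S] I), t ∈ T → φ.rTensor I t ∈ T := by
    intro φ t ht
    rw [hT] at ht ⊢
    have h1 : ∀ t : A ⊗[S] I, I.subtype.lTensor A (φ.rTensor I t) = φ.rTensor S (I.subtype.lTensor A t) := by
      intro t
      rw [← LinearMap.comp_apply, ← LinearMap.comp_apply, LinearMap.lTensor_comp_rTensor,
        LinearMap.rTensor_comp_lTensor]
    rw [h1, ht, map_zero]
  let σ : G → A ⊗[S] I →ₗ[S] A ⊗[S] I := fun g => (actLin k A G g).rTensor I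
  have hσT : ∀ g t, t ∈ T → σ g t ∈ T := fun g t ht => hnat _ t ht
  have hσmul : ∀ g h t, σ (g * h) t = σ g (σ h t) := by
    intro g h t
    change (actLin k A G (g * h)).rTensor I t = (actLin k A G g).rTensor I ((actLin k A G h).rTensor I t)
    rw [← LinearMap.comp_apply, ← LinearMap.rTensor_comp]
    congr 2
    ext a
    exact mul_smul g h a
  have hσone : ∀ t, σ 1 t = t := by
    intro t
    have : actLin k A G 1 = LinearMap.id := by ext a; exact one_smul G a
    change (actLin k A G 1).rTensor I t = t
    rw [this, LinearMap.rTensor_id, LinearMap.id_apply]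
  have hσsmul : ∀ (g : G) (a : A) (t : A ⊗[S] I), σ g (a • t) = (g • a) • σ g t := by
    intro g a t
    induction t using TensorProduct.induction_on with
    | zero => rw [smul_zero, map_zero, smul_zero]
    | add x y hx hy => rw [smul_add, map_add, hx, hy, map_add, smul_add]
    | tmul b i =>
      change (g • (a * b)) ⊗ₜ[S] i = ((g • a) * (g • b)) ⊗ₜ[S] i
      rw [smul_mul']
  set M := maximalIdeal A with hM
  have hσM : ∀ (g : G) (t : A ⊗[S] I), t ∈ M • T → σ g t ∈ M • T := by
    intro g t ht
    refine Submodule.smul_induction_on ht ?_ ?_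
    · intro a ha t ht
      rw [hσsmul]
      exact Submodule.smul_mem_smul (K915.Reflection.smul_mem_maximalIdeal g ha) (hσT g t ht)
    · intro x y hx hy
      rw [map_add]
      exact Submodule.add_mem _ hx hy
  -- every element of `G` acts trivially on `T / M T`
  have htriv : ∀ g : G, ∀ t ∈ T, σ g t - t ∈ M • T := by
    intro g
    have hg : g ∈ Subgroup.closure P := by rw [hP]; trivial
    refine Subgroup.closure_induction (p := fun g _ => ∀ t ∈ T, σ g t - t ∈ M • T) ?_ ?_ ?_ ?_ hg
    · intro g hg t ht
      obtain ⟨x, hx, Δ, hΔ⟩ := hrefl g hg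
      have h1 : σ g t - t = x • Δ.rTensor I t := by
        clear ht
        induction t using TensorProduct.induction_on with
        | zero => rw [map_zero, sub_zero, map_zero, smul_zero]
        | add x y hx hy => rw [map_add, map_add, smul_add, ← hx, ← hy]; abel
        | tmul b i =>
          change (g • b) ⊗ₜ[S] i - b ⊗ₜ[S] i = (x * Δ b) ⊗ₜ[S] i
          rw [← TensorProduct.sub_tmul, hΔ]
      rw [h1]
      exact Submodule.smul_mem_smul hx (hnat _ t ht)
    · intro t ht
      rw [hσone, sub_self]; exact Submodule.zero_mem _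
    · intro g h _ _ hg hh t ht
      have h1 : σ (g * h) t - t = σ g (σ h t - t) + (σ g t - t) := by
        rw [hσmul, map_sub]; abel
      rw [h1]
      exact Submodule.add_mem _ (hσM g _ (hh t ht)) (hg t ht)
    · intro g _ hg t ht
      have h1 : σ g⁻¹ t - t = - σ g⁻¹ (σ g t - t) := by
        rw [map_sub, ← hσmul, inv_mul_cancel, hσone]; abel
      rw [h1]
      exact Submodule.neg_mem _ (hσM _ _ (hg t ht))
  -- the trace kills `T`
  have htr : ∀ t ∈ T, ∑ g : G, σ g t = 0 := by
    intro t ht
    have h1 : ∑ g : G, σ g t = (Algebra.linearMap S A).rTensor I ((tr k A G).rTensor I t) := by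
      rw [← LinearMap.comp_apply, ← LinearMap.rTensor_comp]
      have h2 : Algebra.linearMap S A ∘ₗ tr k A G = ∑ g : G, actLin k A G g := by
        ext a
        rw [LinearMap.sum_apply]
        rfl
      rw [h2]
      have h3 : (∑ g : G, actLin k A G g).rTensor I = ∑ g : G, (actLin k A G g).rTensor I :=
        map_sum (LinearMap.rTensorHom I) _ _
      rw [h3, LinearMap.sum_apply]
      rfl
    have h2 : (tr k A G).rTensor I t = 0 := by
      have hinj : Function.Injective (I.subtype.lTensor S) :=
        Module.Flat.lTensor_preserves_injective_linearMap (M := S) I.subtype Subtype.val_injective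
      apply hinj
      rw [map_zero, ← LinearMap.comp_apply, LinearMap.lTensor_comp_rTensor, ← LinearMap.rTensor_comp_lTensor,
        LinearMap.comp_apply, (hT t).mp ht, map_zero]
    rw [h1, h2, map_zero]
  -- conclusion by Nakayama
  have hle : T ≤ M • T := by
    intro t ht
    have h1 : (Fintype.card G : k) • t = ∑ g : G, σ g t - ∑ g : G, (σ g t - t) := by
      rw [Finset.sum_sub_distrib, Finset.sum_const, Finset.card_univ, Nat.cast_smul_eq_nsmul]; abel
    rw [htr t ht, zero_sub] at h1
    have h2 : (Fintype.card G : k) • t ∈ M • T := by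
      rw [h1]
      exact Submodule.neg_mem _ (Submodule.sum_mem _ fun g _ => htriv g t ht)
    have h3 : t = algebraMap k A (Fintype.card G : k)⁻¹ • ((Fintype.card G : k) • t) := by
      rw [algebraMap_smul, smul_smul, inv_mul_cancel₀ hG, one_smul]
    rw [h3]
    exact Submodule.smul_mem _ _ h2
  have hbot : T = ⊥ := by
    apply Submodule.eq_bot_of_le_smul_of_le_jacobson_bot M T (IsNoetherian.noetherian T) hle
    rw [IsLocalRing.jacobson_eq_maximalIdeal ⊥ bot_ne_top]
  rw [← LinearMap.ker_eq_bot]
  rw [eq_bot_iff]
  intro t ht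
  have : t ∈ T := ht
  rw [hbot] at this
  exact this

end Flat

end K915.ReflFlat
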